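import Groth.Prelude.Def_W4c5flasquetoriphsGLat
import Mathlib.RepresentationTheory.Basic
import Mathlib.LinearAlgebra.FreeModule.PID
import Mathlib.LinearAlgebra.Dual.Lemmas
import Mathlib.Algebra.Group.Action.Sigma
import Mathlib.GroupTheory.GroupAction.Quotient
import Mathlib.RingTheory.Noetherian.Basic
import Mathlib.Data.Finite.Sigma
import Mathlib.Data.Fintype.Sigma
import Mathlib.Algebra.Group.Subgroup.Finite

/-!
Lattices over a finite group: permutation modules are coflasque, flasque/coflasque duality,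
fixed-point surjective permutation covers.
-/

set_option linter.style.header false
set_option linter.style.haveILetI false

namespace GLat22

open Finset

variable {G : Type} [Group G]
variable {M N : Type} [AddCommGroup M] [AddCommGroup N]

/-- The permutation representation on `X →₀ ℤ`. -/
noncomputable def permRep (G : Type) [Group G] (X : Type) [MulAction G X] :
    Representation ℤ G (X →₀ ℤ) where
  toFun g := Finsupp.lmapDomain ℤ ℤ (g • ·)
  map_one' := by ext x y; simp
  map_mul' g h := by ext x y; simp [mul_smul]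

lemma permRep_single {X : Type} [MulAction G X] (g : G) (x : X) (r : ℤ) :
    permRep G X g (Finsupp.single x r) = Finsupp.single (g • x) r := by
  simp [permRep]

lemma isPermutation_permRep {X : Type} [MulAction G X] : GLat.IsPermutation (permRep G X) :=
  ⟨X, Finsupp.basisSingleOne, fun g x => ⟨g • x, by simp [permRep_single]⟩⟩

/-- A basis permuted by `G` gives an action of `G` on the index set. -/
lemma exists_action_of_isPermutation {ρ : Representation ℤ G M} (h : GLat.IsPermutation ρ) :
    ∃ (ι : Type) (b : Module.Basis ι ℤ M) (σ : G → ι → ι),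
      (∀ g i, ρ g (b i) = b (σ g i)) ∧ (∀ g h i, σ (g * h) i = σ g (σ h i)) ∧ (∀ i, σ 1 i = i) := by
  obtain ⟨ι, b, hb⟩ := h
  choose σ hσ using hb
  refine ⟨ι, b, σ, hσ, fun g h i => b.injective ?_, fun i => b.injective ?_⟩
  · rw [← hσ, ← hσ, ← hσ, map_mul]
    rfl
  · rw [← hσ]
    simp

lemma repr_apply_of_perm {ι : Type} (b : Module.Basis ι ℤ M) (ρ : Representation ℤ G M)
    (σ : G → ι → ι) (hσ : ∀ g i, ρ g (b i) = b (σ g i))
    (hmul : ∀ g h i, σ (g * h) i = σ g (σ h i)) (hone : ∀ i, σ 1 i = i) (g : G) (v : M) (i : ι) :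
    b.repr (ρ g v) (σ g i) = b.repr v i := by
  have hinj : Function.Injective (σ g) := fun x y hxy => by
    have h := congrArg (σ g⁻¹) hxy
    rwa [← hmul, ← hmul, inv_mul_cancel, hone, hone] at h
  have : (b.repr.toLinearMap ∘ₗ ρ g) = (Finsupp.lmapDomain ℤ ℤ (σ g)) ∘ₗ b.repr.toLinearMap := by
    apply b.ext
    intro j
    simp [hσ]
  have h2 := LinearMap.congr_fun this v
  simp only [LinearMap.coe_comp, LinearEquiv.coe_coe, Function.comp_apply,
    Finsupp.lmapDomain_apply] at h2
  rw [h2, Finsupp.mapDomain_apply hinj]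

/-- `H¹(H, ℤ[X]) = 0`. -/
theorem isCoflasque_of_isPermutation [Finite G] [Module.Finite ℤ M] {ρ : Representation ℤ G M}
    (h : GLat.IsPermutation ρ) : GLat.IsCoflasque ρ := by
  classical
  obtain ⟨ι, b, σ, hσ, hmul, hone⟩ := exists_action_of_isPermutation h
  have : Finite ι := Module.Finite.finite_basis b
  intro H f hf
  haveI : Fintype H := Fintype.ofFinite _
  set s : M := ∑ a : H, f a with hs
  have key : ∀ a : H, (Fintype.card H : ℤ) • f a = s - ρ (a : G) s := by
    intro a
    have h1 : ∑ x : H, f (a * x) = s := by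
      rw [hs]
      exact Fintype.sum_equiv (Equiv.mulLeft a) _ _ (fun x => rfl)
    have h2 : ∑ x : H, f (a * x) = (Fintype.card H : ℤ) • f a + ρ (a : G) s := by
      rw [Finset.sum_congr rfl (fun x _ => hf a x), Finset.sum_add_distrib, Finset.sum_const,
        Finset.card_univ, hs, map_sum, natCast_zsmul]
    rw [h1] at h2
    rw [eq_sub_iff_add_eq]
    exact h2.symm
  have key' : ∀ (a : H) (i : ι), (Fintype.card H : ℤ) * b.repr (f a) i =
      b.repr s i - b.repr s (σ (a : G)⁻¹ i) := by
    intro a i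
    have h1 := congrArg (fun v => b.repr v i) (key a)
    simp only [map_smul, map_sub, Finsupp.smul_apply, Finsupp.sub_apply, smul_eq_mul] at h1
    rw [h1]
    congr 1
    conv_lhs => rw [show i = σ (a : G) (σ (a : G)⁻¹ i) by rw [← hmul, mul_inv_cancel, hone]]
    exact repr_apply_of_perm b ρ σ hσ hmul hone _ _ _
  -- orbits
  let r : Setoid ι :=
    { r := fun i j => ∃ a : H, σ (a : G) i = j
      iseqv := ⟨fun i => ⟨1, hone i⟩,
        fun {i j} ⟨a, ha⟩ => ⟨a⁻¹, by rw [← ha, ← hmul, Subgroup.coe_inv, inv_mul_cancel, hone]⟩,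
        fun {i j k} ⟨a, ha⟩ ⟨c, hc⟩ => ⟨c * a, by rw [Subgroup.coe_mul, hmul, ha, hc]⟩⟩ }
  let c : ι → ℤ := fun i => b.repr s (Quotient.out (Quotient.mk r i))
  have hdiv : ∀ i, (Fintype.card H : ℤ) ∣ b.repr s i - c i := by
    intro i
    obtain ⟨a, ha⟩ : ∃ a : H, σ (a : G) (Quotient.out (Quotient.mk r i)) = i :=
      Quotient.mk_out (s := r) i
    refine ⟨b.repr (f a) i, ?_⟩
    have h1 := key' a i
    have h2 : σ (a : G)⁻¹ i = Quotient.out (Quotient.mk r i) := by
      conv_lhs => rw [← ha]
      rw [← hmul, inv_mul_cancel, hone]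
    rw [h2] at h1
    exact h1.symm
  choose q hq using hdiv
  refine ⟨b.repr.symm (Finsupp.equivFunOnFinite.symm (fun i => - q i)), fun a => ?_⟩
  apply b.repr.injective
  ext i
  simp only [map_sub, Finsupp.sub_apply]
  conv_rhs => arg 1; rw [show i = σ (a : G) (σ (a : G)⁻¹ i) by rw [← hmul, mul_inv_cancel, hone]]
  rw [repr_apply_of_perm b ρ σ hσ hmul hone]
  simp only [LinearEquiv.apply_symm_apply]
  change b.repr (f a) i = - q (σ (a : G)⁻¹ i) - - q i
  have hc : c (σ (a : G)⁻¹ i) = c i := by
    change b.repr s (Quotient.out (Quotient.mk r (σ (a : G)⁻¹ i))) = _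
    rw [Quotient.sound (s := r) (a := σ (a : G)⁻¹ i) (b := i)
      ⟨a, by rw [← hmul, mul_inv_cancel, hone]⟩]
  have hn : (Fintype.card H : ℤ) ≠ 0 := by exact_mod_cast Fintype.card_ne_zero
  apply mul_left_cancel₀ hn
  have e1 := hq i
  have e2 := hq (σ (a : G)⁻¹ i)
  rw [hc] at e2
  linarith [key' a i]

/-- The dual of a permutation lattice is a permutation lattice. -/
theorem isPermutation_dual [Module.Finite ℤ M] {ρ : Representation ℤ G M}
    (h : GLat.IsPermutation ρ) : GLat.IsPermutation ρ.dual := by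
  classical
  obtain ⟨ι, b, σ, hσ, hmul, hone⟩ := exists_action_of_isPermutation h
  have : Finite ι := Module.Finite.finite_basis b
  refine ⟨ι, b.dualBasis, fun g i => ⟨σ g i, b.ext fun k => ?_⟩⟩
  rw [Representation.dual_apply]
  simp only [Module.Dual.transpose_apply, LinearMap.coe_comp, Function.comp_apply, hσ,
    Module.Basis.dualBasis_apply_self]
  by_cases hk : σ g⁻¹ k = i
  · rw [if_pos hk, if_pos]
    rw [← hk, ← hmul, mul_inv_cancel, hone]
  · rw [if_neg hk, if_neg]
    intro hk'
    exact hk (by rw [hk', ← hmul, inv_mul_cancel, hone])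

/-- The norm map of a subgroup. -/
noncomputable def norm [Finite G] (ρ : Representation ℤ G M) (H : Subgroup G) : M →ₗ[ℤ] M :=
  haveI : Fintype H := Fintype.ofFinite _
  ∑ a : H, ρ (a : G)

lemma norm_apply [Finite G] (ρ : Representation ℤ G M) (H : Subgroup G) [Fintype H] (m : M) :
    norm ρ H m = ∑ a : H, ρ (a : G) m := by
  simp only [norm, LinearMap.sum_apply]
  congr!

lemma finsum_eq_norm [Finite G] (ρ : Representation ℤ G M) (H : Subgroup G) (m : M) :
    (∑ᶠ h : H, ρ (h : G) m) = norm ρ H m := by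
  haveI : Fintype H := Fintype.ofFinite _
  rw [norm_apply, finsum_eq_sum_of_fintype]

lemma norm_eq_zero_of_mem_span [Finite G] (ρ : Representation ℤ G M) (H : Subgroup G) {m : M}
    (hm : m ∈ Submodule.span ℤ {x : M | ∃ (h : H) (y : M), x = ρ (h : G) y - y}) :
    norm ρ H m = 0 := by
  haveI : Fintype H := Fintype.ofFinite _
  refine (Submodule.span_le.mpr ?_ hm : m ∈ LinearMap.ker (norm ρ H))
  rintro _ ⟨a, y, rfl⟩
  simp only [SetLike.mem_coe, LinearMap.mem_ker, map_sub, norm_apply]
  rw [sub_eq_zero]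
  refine Fintype.sum_equiv (Equiv.mulRight a) _ _ (fun x => ?_)
  simp

/-- A functional on a submodule with torsion-free quotient extends. -/
lemma exists_extension [Module.Finite ℤ M] (K : Submodule ℤ M)
    (hsat : ∀ (n : ℤ) (x : M), n ≠ 0 → n • x ∈ K → x ∈ K) (μ : K →ₗ[ℤ] N) :
    ∃ μ' : M →ₗ[ℤ] N, ∀ x : K, μ' x = μ x := by
  have : Module.IsTorsionFree ℤ (M ⧸ K) := by
    rw [Module.isTorsionFree_iff_smul_eq_zero]
    intro n x
    induction x using Submodule.Quotient.induction_on with
    | _ x =>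
      intro hx
      by_cases hn : n = 0
      · exact Or.inl hn
      · refine Or.inr ?_
        rw [← Submodule.Quotient.mk_smul, Submodule.Quotient.mk_eq_zero] at hx
        rw [Submodule.Quotient.mk_eq_zero]
        exact hsat n x hn hx
  obtain ⟨s, hs⟩ := Module.projective_lifting_property K.mkQ LinearMap.id K.mkQ_surjective
  have hmem : ∀ x, x - s (K.mkQ x) ∈ K := by
    intro x
    rw [← Submodule.Quotient.mk_eq_zero, Submodule.Quotient.mk_sub, sub_eq_zero]
    exact (LinearMap.congr_fun hs (K.mkQ x)).symm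
  refine ⟨μ ∘ₗ (LinearMap.id - s ∘ₗ K.mkQ).codRestrict K hmem, fun x => ?_⟩
  simp only [LinearMap.coe_comp, Function.comp_apply]
  congr 1
  apply Subtype.ext
  simp [show K.mkQ (x : M) = 0 from (Submodule.Quotient.mk_eq_zero K).mpr x.2]

/-- The dual of a coflasque lattice is flasque. -/
theorem isFlasque_dual [Finite G] [Module.Finite ℤ M] [Module.Free ℤ M]
    {ρ : Representation ℤ G M} (h : GLat.IsCoflasque ρ) : GLat.IsFlasque ρ.dual := by
  classical
  intro H φ hφ
  haveI : Fintype H := Fintype.ofFinite _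
  rw [finsum_eq_norm, norm_apply] at hφ
  let d : M →ₗ[ℤ] (H → M) := LinearMap.pi fun a : H => ρ (a : G)⁻¹ - LinearMap.id
  have hd : ∀ x (a : H), d x a = ρ (a : G)⁻¹ x - x := fun x a => rfl
  -- `φ` kills the fixed points
  have hker : ∀ x, d x = 0 → φ x = 0 := by
    intro x hx
    have h1 := LinearMap.congr_fun hφ x
    simp only [LinearMap.sum_apply, LinearMap.zero_apply, Representation.dual_apply,
      Module.Dual.transpose_apply, LinearMap.coe_comp, Function.comp_apply] at h1
    have h2 : ∀ a : H, φ (ρ (a : G)⁻¹ x) = φ x := fun a => by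
      have := congrFun hx a
      rw [hd, Pi.zero_apply, sub_eq_zero] at this
      rw [this]
    simp only [h2, Finset.sum_const, Finset.card_univ, nsmul_eq_mul, mul_eq_zero,
      Nat.cast_eq_zero, Fintype.card_ne_zero, false_or] at h1
    exact h1
  -- functional on the range
  obtain ⟨ψ₀, hψ₀⟩ : ∃ ψ₀ : LinearMap.range d →ₗ[ℤ] ℤ, ∀ x, ψ₀ ⟨d x, ⟨x, rfl⟩⟩ = φ x := by
    refine ⟨(Submodule.liftQ (LinearMap.ker d) φ (fun x hx => hker x hx)) ∘ₗ
      d.quotKerEquivRange.symm.toLinearMap, fun x => ?_⟩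
    simp only [LinearMap.coe_comp, LinearEquiv.coe_coe, Function.comp_apply]
    rw [LinearMap.quotKerEquivRange_symm_apply_image]
    rfl
  have hsat : ∀ (n : ℤ) (y : H → M), n ≠ 0 → n • y ∈ LinearMap.range d → y ∈ LinearMap.range d := by
    rintro n y hn ⟨x, hx⟩
    have hy : ∀ a : H, n • y a⁻¹ = ρ (a : G) x - x := fun a => by
      have := congrFun hx a⁻¹
      rw [hd, Subgroup.coe_inv, inv_inv] at this
      rw [this]; rfl
    obtain ⟨m, hm⟩ := h H (fun a => y a⁻¹) (fun a b => by
      apply smul_right_injective M hn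
      simp only [smul_add]
      rw [hy, ← map_zsmul, hy, hy, Subgroup.coe_mul, map_mul, map_sub]
      simp only [Module.End.mul_apply]
      abel)
    refine ⟨m, funext fun a => ?_⟩
    have := hm a⁻¹
    simp only [inv_inv, Subgroup.coe_inv] at this
    rw [hd, this]
  obtain ⟨ψ, hψ⟩ := exists_extension _ hsat ψ₀
  have hφ' : φ = ∑ a : H, (ρ.dual (a : G) (ψ ∘ₗ LinearMap.single ℤ (fun _ : H => M) a) -
      ψ ∘ₗ LinearMap.single ℤ (fun _ : H => M) a) := by
    ext x
    have h1 : φ x = ψ (d x) := by rw [← hψ₀ x, ← hψ]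
    rw [h1, ← Finset.univ_sum_single (d x), map_sum]
    simp only [LinearMap.sum_apply, LinearMap.sub_apply, Representation.dual_apply,
      Module.Dual.transpose_apply, LinearMap.coe_comp, Function.comp_apply, LinearMap.coe_single]
    refine Finset.sum_congr rfl fun a _ => ?_
    rw [hd, Pi.single_sub, map_sub]
  rw [hφ']
  exact Submodule.sum_mem _ fun a _ => Submodule.subset_span ⟨a, _, rfl⟩

/-- The dual of a flasque lattice is coflasque. -/
theorem isCoflasque_dual [Finite G] [Module.Finite ℤ M] [Module.Free ℤ M]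
    {ρ : Representation ℤ G M} (h : GLat.IsFlasque ρ) : GLat.IsCoflasque ρ.dual := by
  classical
  intro H f hf
  haveI : Fintype H := Fintype.ofFinite _
  set n : ℤ := (Fintype.card H : ℤ) with hn_def
  have hn : n ≠ 0 := by rw [hn_def]; exact_mod_cast Fintype.card_ne_zero
  set s : Module.Dual ℤ M := ∑ a : H, f a with hs
  have key : ∀ (a : H) (y : M), n * f a y = s y - s (ρ (a : G)⁻¹ y) := by
    intro a y
    have h1 : ∑ x : H, f (a * x) = s := by
      rw [hs]
      exact Fintype.sum_equiv (Equiv.mulLeft a) _ _ (fun x => rfl)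
    rw [Finset.sum_congr rfl (fun x _ => hf a x), Finset.sum_add_distrib, Finset.sum_const,
      Finset.card_univ, ← map_sum, ← hs] at h1
    have h2 := LinearMap.congr_fun h1 y
    simp only [LinearMap.add_apply, LinearMap.smul_apply, nsmul_eq_mul,
      Representation.dual_apply, Module.Dual.transpose_apply, LinearMap.coe_comp,
      Function.comp_apply] at h2
    rw [hn_def]
    linarith
  let K : Submodule ℤ M := LinearMap.ker (norm ρ H)
  have hK : ∀ x ∈ K, n ∣ s x := by
    intro x hx
    have hx' := h H x (by rw [finsum_eq_norm]; exact hx)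
    induction hx' using Submodule.span_induction with
    | mem y hy =>
      obtain ⟨a, z, rfl⟩ := hy
      refine ⟨- f a⁻¹ z, ?_⟩
      have := key a⁻¹ z
      rw [Subgroup.coe_inv, inv_inv] at this
      rw [map_sub, mul_neg]
      linarith
    | zero => simp
    | add y z hy hz h1 h2 =>
      rw [map_add]
      exact dvd_add (h1 (norm_eq_zero_of_mem_span ρ H hy)) (h2 (norm_eq_zero_of_mem_span ρ H hz))
    | smul c y hy h1 =>
      rw [map_smul, smul_eq_mul]
      exact dvd_mul_of_dvd_right (h1 (norm_eq_zero_of_mem_span ρ H hy)) _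
  let μ : K →ₗ[ℤ] ℤ :=
    { toFun := fun x => - (s (x : M) / n)
      map_add' := fun x y => by
        simp only [Submodule.coe_add, map_add]
        rw [Int.add_ediv_of_dvd_left (hK _ x.2)]
        ring
      map_smul' := fun c x => by
        simp only [Submodule.coe_smul, map_smul, smul_eq_mul, RingHom.id_apply]
        rw [Int.mul_ediv_assoc _ (hK _ x.2)]
        ring }
  have hsat : ∀ (m : ℤ) (x : M), m ≠ 0 → m • x ∈ K → x ∈ K := by
    intro m x hm hx
    rw [LinearMap.mem_ker] at hx ⊢
    rw [map_zsmul] at hx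
    exact (smul_eq_zero.mp hx).resolve_left hm
  obtain ⟨μ', hμ'⟩ := exists_extension K hsat μ
  refine ⟨μ', fun a => ?_⟩
  ext y
  simp only [LinearMap.sub_apply, Representation.dual_apply, Module.Dual.transpose_apply,
    LinearMap.coe_comp, Function.comp_apply]
  rw [← map_sub]
  have hmem : ρ (a : G)⁻¹ y - y ∈ K := norm_eq_zero_of_mem_span ρ H
    (Submodule.subset_span ⟨a⁻¹, y, by rw [Subgroup.coe_inv]⟩)
  rw [hμ' ⟨_, hmem⟩]
  change f a y = - (s (ρ (a : G)⁻¹ y - y) / n)
  rw [map_sub, show s (ρ (a : G)⁻¹ y) - s y = n * (- f a y) by rw [mul_neg, key]; ring,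
    Int.mul_ediv_cancel_left _ hn, neg_neg]

/-- Permutation lattices are flasque. -/
theorem isFlasque_of_isPermutation [Finite G] [Module.Finite ℤ M] [Module.Free ℤ M]
    {ρ : Representation ℤ G M} (h : GLat.IsPermutation ρ) : GLat.IsFlasque ρ := by
  have hd : GLat.IsFlasque ρ.dual.dual :=
    isFlasque_dual (isCoflasque_of_isPermutation (isPermutation_dual h))
  let e : M ≃ₗ[ℤ] Module.Dual ℤ (Module.Dual ℤ M) := Module.evalEquiv ℤ M
  have he : ∀ g m, e (ρ g m) = ρ.dual.dual g (e m) := by
    intro g m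
    ext φ
    simp only [Representation.dual_apply, Module.Dual.transpose_apply, LinearMap.coe_comp,
      Function.comp_apply, inv_inv]
    rfl
  intro H m hm
  haveI : Fintype H := Fintype.ofFinite _
  have h2 := hd H (e m) (by
    rw [finsum_eq_norm, norm_apply] at hm ⊢
    simp only [← he, ← map_sum, hm, map_zero])
  suffices hsp : ∀ z, z ∈ Submodule.span ℤ {x : Module.Dual ℤ (Module.Dual ℤ M) |
      ∃ (h : H) (y : Module.Dual ℤ (Module.Dual ℤ M)), x = ρ.dual.dual (h : G) y - y} →
      e.symm z ∈ Submodule.span ℤ {x : M | ∃ (h : H) (y : M), x = ρ (h : G) y - y} by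
    simpa using hsp _ h2
  intro z hz
  induction hz using Submodule.span_induction with
  | mem y hy =>
    obtain ⟨a, w, rfl⟩ := hy
    refine Submodule.subset_span ⟨a, e.symm w, e.injective ?_⟩
    rw [map_sub e, he]
    simp
  | zero => simp
  | add y z _ _ h1 h2 => rw [map_add]; exact Submodule.add_mem _ h1 h2
  | smul c y _ h1 => rw [map_smul]; exact Submodule.smul_mem _ c h1

/-- A permutation cover of a finitely generated module which is surjective on all fixed points:
the kernel is coflasque. -/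
theorem exists_coflasque_resolution [Finite G] (A : Type) [AddCommGroup A] [Module.Finite ℤ A]
    (ρ : Representation ℤ G A) :
    ∃ (Q : Type) (_ : AddCommGroup Q) (P : Type) (_ : AddCommGroup P)
      (_ : Module.Finite ℤ Q) (_ : Module.Free ℤ Q) (_ : Module.Finite ℤ P) (_ : Module.Free ℤ P)
      (σ : Representation ℤ G Q) (τ : Representation ℤ G P) (i : Q →ₗ[ℤ] P) (π : P →ₗ[ℤ] A),
      GLat.IsEquivariant σ τ i ∧ GLat.IsEquivariant τ ρ π ∧ Function.Injective i ∧
      Function.Surjective π ∧ LinearMap.range i = LinearMap.ker π ∧ GLat.IsPermutation τ ∧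
      GLat.IsCoflasque σ := by
  classical
  let Fx : Subgroup G → Submodule ℤ A := fun H =>
    ⨅ a : H, LinearMap.ker (ρ (a : G) - LinearMap.id)
  have hFx : ∀ H x, x ∈ Fx H ↔ ∀ a : H, ρ (a : G) x = x := fun H x => by
    simp [Fx, sub_eq_zero]
  have hgen : ∀ H : Subgroup G, ∃ (n : ℕ) (v : Fin n → A), Submodule.span ℤ (Set.range v) = Fx H :=
    fun H => Submodule.fg_iff_exists_fin_generating_family.mp (IsNoetherian.noetherian (Fx H))
  choose n v hv using hgen
  have hfix : ∀ H i (a : G), a ∈ H → ρ a (v H i) = v H i := fun H i a ha =>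
    (hFx H _).mp ((hv H).le (Submodule.subset_span ⟨i, rfl⟩)) ⟨a, ha⟩
  haveI : Finite (Subgroup G) := Finite.of_injective (fun H => (H : Set G)) SetLike.coe_injective
  haveI : ∀ p : (Σ H : Subgroup G, Fin (n H)), Finite (G ⧸ p.1) := fun p =>
    Finite.of_surjective _ QuotientGroup.mk_surjective
  let X := Σ p : (Σ H : Subgroup G, Fin (n H)), G ⧸ p.1
  haveI : Finite X := inferInstanceAs (Finite (Σ p : (Σ H : Subgroup G, Fin (n H)), G ⧸ p.1))
  let val : X → A := fun x => Quotient.liftOn' x.2 (fun g => ρ g (v x.1.1 x.1.2)) (fun g g' hgg => by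
    rw [QuotientGroup.leftRel_apply] at hgg
    have h1 := hfix x.1.1 x.1.2 _ hgg
    conv_lhs => rw [← h1]
    rw [← Module.End.mul_apply, ← map_mul, mul_inv_cancel_left])
  have hval : ∀ (g : G) (x : X), val (g • x) = ρ g (val x) := by
    rintro g ⟨p, q⟩
    induction q using QuotientGroup.induction_on with
    | H h =>
      change ρ (g * h) _ = _
      rw [map_mul]
      rfl
  let π : (X →₀ ℤ) →ₗ[ℤ] A := Finsupp.linearCombination ℤ val
  have hπ : GLat.IsEquivariant (permRep G X) ρ π := by
    intro g m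
    induction m using Finsupp.induction_linear with
    | zero => simp
    | add f g hf hg => simp [map_add, hf, hg]
    | single x r => simp [π, permRep_single, hval]
  have hsurjfix : ∀ (H : Subgroup G) (a : A), (∀ h : H, ρ (h : G) a = a) →
      ∃ p : X →₀ ℤ, π p = a ∧ ∀ h : H, permRep G X (h : G) p = p := by
    intro H a ha
    obtain ⟨c, hc⟩ := (Submodule.mem_span_range_iff_exists_fun ℤ).mp
      ((hv H).ge ((hFx H a).mpr ha))
    refine ⟨∑ i, Finsupp.single (⟨⟨H, i⟩, ((1 : G) : G ⧸ H)⟩ : X) (c i), ?_, fun h => ?_⟩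
    · rw [map_sum, ← hc]
      refine Finset.sum_congr rfl fun i _ => ?_
      rw [show π (Finsupp.single _ (c i)) = c i • val _ from Finsupp.linearCombination_single ..]
      change c i • ρ 1 (v H i) = _
      simp
    · rw [map_sum]
      refine Finset.sum_congr rfl fun i _ => ?_
      rw [permRep_single]
      congr 1
      change (⟨⟨H, i⟩, (h : G) • ((1 : G) : G ⧸ H)⟩ : X) = _
      congr 1
      apply QuotientGroup.eq.mpr
      simp
  have hK : ∀ g, LinearMap.ker π ≤ (LinearMap.ker π).comap (permRep G X g) := fun g x hx => by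
    rw [Submodule.mem_comap, LinearMap.mem_ker, hπ, LinearMap.mem_ker.mp hx, map_zero]
  refine ⟨LinearMap.ker π, inferInstance, X →₀ ℤ, inferInstance, inferInstance, inferInstance,
    inferInstance, inferInstance, (permRep G X).subrepresentation (LinearMap.ker π) hK,
    permRep G X, (LinearMap.ker π).subtype, π, fun g m => rfl, hπ, Subtype.val_injective, ?_,
    Submodule.range_subtype _, isPermutation_permRep, ?_⟩
  · intro a
    obtain ⟨p, hp, -⟩ := hsurjfix ⊥ a (fun h => by
      rw [show (h : G) = 1 from Subgroup.mem_bot.mp h.2]; simp)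
    exact ⟨p, hp⟩
  · intro H f hf
    obtain ⟨p, hp⟩ := isCoflasque_of_isPermutation (isPermutation_permRep (G := G) (X := X)) H
      (fun a => (f a : X →₀ ℤ)) (fun a b => congrArg Subtype.val (hf a b))
    have hπp : ∀ h : H, ρ (h : G) (π p) = π p := fun h => by
      have h1 := congrArg π (hp h)
      rw [map_sub, hπ, show π (f h : X →₀ ℤ) = 0 from LinearMap.mem_ker.mp (f h).2] at h1
      exact sub_eq_zero.mp h1.symm
    obtain ⟨p', hp', hp'fix⟩ := hsurjfix H (π p) hπp
    refine ⟨⟨p - p', by rw [LinearMap.mem_ker, map_sub, hp', sub_self]⟩, fun a => Subtype.ext ?_⟩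
    change (f a : X →₀ ℤ) = permRep G X (a : G) (p - p') - (p - p')
    rw [hp a, map_sub, hp'fix]
    abel

/-- Flasque resolution of a lattice. -/
theorem exists_flasque_resolution [Finite G] (A : Type) [AddCommGroup A] [Module.Finite ℤ A]
    [Module.Free ℤ A] (ρ : Representation ℤ G A) :
    ∃ (P : Type) (_ : AddCommGroup P) (F : Type) (_ : AddCommGroup F)
      (_ : Module.Finite ℤ P) (_ : Module.Free ℤ P) (_ : Module.Finite ℤ F) (_ : Module.Free ℤ F)
      (σ : Representation ℤ G P) (τ : Representation ℤ G F) (i : A →ₗ[ℤ] P) (π : P →ₗ[ℤ] F),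
      GLat.IsEquivariant ρ σ i ∧ GLat.IsEquivariant σ τ π ∧ Function.Injective i ∧
      Function.Surjective π ∧ LinearMap.range i = LinearMap.ker π ∧ GLat.IsPermutation σ ∧
      GLat.IsFlasque τ := by
  obtain ⟨Q, _, P, _, _, _, _, _, σ, τ, i, π, hi, hπ, hiinj, hπsurj, hex, hperm, hcofl⟩ :=
    exists_coflasque_resolution (Module.Dual ℤ A) ρ.dual
  obtain ⟨s, hs⟩ := Module.projective_lifting_property π LinearMap.id hπsurj
  have hs' : ∀ φ, π (s φ) = φ := fun φ => LinearMap.congr_fun hs φ
  have hmem : ∀ p, (LinearMap.id - s ∘ₗ π : P →ₗ[ℤ] P) p ∈ LinearMap.range i := fun p => by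
    rw [hex, LinearMap.mem_ker]
    simp [hs']
  let r : P →ₗ[ℤ] Q := (LinearEquiv.ofInjective i hiinj).symm.toLinearMap ∘ₗ
    (LinearMap.id - s ∘ₗ π).codRestrict _ hmem
  have hr : ∀ p, i (r p) = p - s (π p) := fun p => by
    simp only [r, LinearMap.coe_comp, LinearEquiv.coe_coe, Function.comp_apply]
    exact congrArg Subtype.val ((LinearEquiv.ofInjective i hiinj).apply_symm_apply _)
  have hπi : ∀ q, π (i q) = 0 := fun q =>
    LinearMap.mem_ker.mp (hex.le (LinearMap.mem_range_self i q))
  refine ⟨Module.Dual ℤ P, inferInstance, Module.Dual ℤ Q, inferInstance, inferInstance,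
    inferInstance, inferInstance, inferInstance, τ.dual, σ.dual,
    π.dualMap ∘ₗ (Module.evalEquiv ℤ A).toLinearMap, i.dualMap, ?_, ?_, ?_, ?_, ?_,
    isPermutation_dual hperm, isFlasque_dual hcofl⟩
  · intro g m
    ext p
    simp only [LinearMap.coe_comp, LinearEquiv.coe_coe, Function.comp_apply,
      LinearMap.dualMap_apply, Representation.dual_apply, Module.Dual.transpose_apply]
    rw [hπ]
    simp only [Representation.dual_apply, Module.evalEquiv_apply, Module.Dual.eval_apply,
      Module.Dual.transpose_apply, LinearMap.coe_comp, Function.comp_apply, inv_inv]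
  · intro g φ
    ext q
    simp only [LinearMap.dualMap_apply, Representation.dual_apply, Module.Dual.transpose_apply,
      LinearMap.coe_comp, Function.comp_apply]
    rw [hi]
  · exact (LinearMap.dualMap_injective_of_surjective hπsurj).comp (LinearEquiv.injective _)
  · intro φ
    refine ⟨φ ∘ₗ r, LinearMap.ext fun q => ?_⟩
    simp only [LinearMap.dualMap_apply, LinearMap.coe_comp, Function.comp_apply]
    congr 1
    apply hiinj
    rw [hr, hπi, map_zero, sub_zero]
  · apply le_antisymm
    · rintro _ ⟨a, rfl⟩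
      rw [LinearMap.mem_ker]
      ext q
      simp [hπi]
    · intro φ hφ
      have h0 : ∀ q, φ (i q) = 0 := fun q => LinearMap.congr_fun (LinearMap.mem_ker.mp hφ) q
      refine ⟨(Module.evalEquiv ℤ A).symm (φ ∘ₗ s), LinearMap.ext fun p => ?_⟩
      simp only [LinearMap.coe_comp, LinearEquiv.coe_coe, Function.comp_apply,
        LinearEquiv.apply_symm_apply, LinearMap.dualMap_apply]
      have := h0 (r p)
      rw [hr, map_sub, sub_eq_zero] at this
      exact this.symm

/-- Every finitely generated module is a quotient of a flasque lattice by a permutation lattice. -/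
theorem exists_permutation_kernel_flasque_cover [Finite G] (A : Type) [AddCommGroup A]
    [Module.Finite ℤ A] (ρ : Representation ℤ G A) :
    ∃ (P : Type) (_ : AddCommGroup P) (F : Type) (_ : AddCommGroup F)
      (_ : Module.Finite ℤ P) (_ : Module.Free ℤ P) (_ : Module.Finite ℤ F) (_ : Module.Free ℤ F)
      (σ : Representation ℤ G P) (τ : Representation ℤ G F) (i : P →ₗ[ℤ] F) (π : F →ₗ[ℤ] A),
      GLat.IsEquivariant σ τ i ∧ GLat.IsEquivariant τ ρ π ∧ Function.Injective i ∧
      Function.Surjective π ∧ LinearMap.range i = LinearMap.ker π ∧ GLat.IsPermutation σ ∧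
      GLat.IsFlasque τ := by
  classical
  obtain ⟨R, _, P0, _, _, _, _, _, σR, σ0, i0, π0, hi0, hπ0, hi0inj, hπ0surj, hex0, hperm0, -⟩ :=
    exists_coflasque_resolution A ρ
  obtain ⟨P, _, F1, _, _, _, _, _, σ, τ1, j, q, hj, hq, hjinj, hqsurj, hexj, hperm, hfl⟩ :=
    exists_flasque_resolution R σR
  have hqj : ∀ r, q (j r) = 0 := fun r =>
    LinearMap.mem_ker.mp (hexj.le (LinearMap.mem_range_self j r))
  have hπi : ∀ r, π0 (i0 r) = 0 := fun r =>
    LinearMap.mem_ker.mp (hex0.le (LinearMap.mem_range_self i0 r))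
  let W : Submodule ℤ (P × P0) := LinearMap.range (LinearMap.prod j (-i0))
  have hWmem : ∀ {p p0}, (p, p0) ∈ W ↔ ∃ r, j r = p ∧ -i0 r = p0 := fun {p p0} => by
    simp [W]
  have hW : ∀ g, W ≤ W.comap ((σ.prod σ0) g) := by
    rintro g _ ⟨r, rfl⟩
    refine ⟨σR g r, ?_⟩
    change _ = (σ g (j r), σ0 g (-i0 r))
    rw [map_neg, ← hj g r, ← hi0 g r]
    rfl
  haveI : Module.IsTorsionFree ℤ ((P × P0) ⧸ W) := by
    rw [Module.isTorsionFree_iff_smul_eq_zero]
    intro n x
    induction x using Submodule.Quotient.induction_on with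
    | _ x =>
      intro hx
      by_cases hn : n = 0
      · exact Or.inl hn
      · refine Or.inr ?_
        rw [← Submodule.Quotient.mk_smul, Submodule.Quotient.mk_eq_zero] at hx
        rw [Submodule.Quotient.mk_eq_zero]
        obtain ⟨p, p0⟩ := x
        rw [Prod.smul_mk, hWmem] at hx
        obtain ⟨r, hr1, hr2⟩ := hx
        have hqp : q p = 0 := by
          have h1 := congrArg q hr1
          rw [hqj, map_zsmul] at h1
          exact (smul_eq_zero.mp h1.symm).resolve_left hn
        obtain ⟨r', hr'⟩ := hexj.ge (LinearMap.mem_ker.mpr hqp)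
        have hr'' : r = n • r' := hjinj (by rw [map_zsmul, hr', hr1])
        rw [hWmem]
        refine ⟨r', hr', smul_right_injective P0 hn ?_⟩
        change n • -i0 r' = n • p0
        rw [← hr2, hr'', map_zsmul, smul_neg]
  let τ : Representation ℤ G ((P × P0) ⧸ W) := (σ.prod σ0).quotient W hW
  have hτ : ∀ g x, τ g (W.mkQ x) = W.mkQ ((σ g x.1, σ0 g x.2)) := fun g x => rfl
  let i : P →ₗ[ℤ] (P × P0) ⧸ W := W.mkQ ∘ₗ LinearMap.inl ℤ P P0
  let π : ((P × P0) ⧸ W) →ₗ[ℤ] A := W.liftQ (π0 ∘ₗ LinearMap.snd ℤ P P0) (by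
    rintro _ ⟨r, rfl⟩
    simp [hπi])
  refine ⟨P, inferInstance, (P × P0) ⧸ W, inferInstance, inferInstance, inferInstance,
    inferInstance, inferInstance, σ, τ, i, π, ?_, ?_, ?_, ?_, ?_, hperm, ?_⟩
  · intro g p
    change W.mkQ (σ g p, 0) = τ g (W.mkQ (p, 0))
    rw [hτ, map_zero]
  · intro g m
    induction m using Submodule.Quotient.induction_on with
    | _ x =>
      change π (τ g (W.mkQ x)) = ρ g (π0 x.2)
      rw [hτ, ← hπ0]
      rfl
  · rw [← LinearMap.ker_eq_bot, eq_bot_iff]
    intro p hp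
    have hp' : (p, (0 : P0)) ∈ W := (Submodule.Quotient.mk_eq_zero W).mp (LinearMap.mem_ker.mp hp)
    obtain ⟨r, hr1, hr2⟩ := hWmem.mp hp'
    have : r = 0 := hi0inj (by rw [map_zero]; exact neg_eq_zero.mp hr2)
    rw [Submodule.mem_bot, ← hr1, this, map_zero]
  · intro a
    obtain ⟨p0, rfl⟩ := hπ0surj a
    exact ⟨W.mkQ (0, p0), rfl⟩
  · apply le_antisymm
    · rintro _ ⟨p, rfl⟩
      simp [i, π]
    · intro m hm
      induction m using Submodule.Quotient.induction_on with
      | _ x =>
        obtain ⟨p, p0⟩ := x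
        have hp0 : π0 p0 = 0 := hm
        obtain ⟨r, hr⟩ := hex0.ge (LinearMap.mem_ker.mpr hp0)
        refine ⟨p + j r, (Submodule.Quotient.eq W).mpr ?_⟩
        change (p + j r, (0 : P0)) - (p, p0) ∈ W
        rw [Prod.mk_sub_mk, hWmem]
        exact ⟨r, by abel, by rw [hr]; simp⟩
  · intro H m hm
    haveI : Fintype H := Fintype.ofFinite _
    rw [finsum_eq_norm] at hm
    let qb : ((P × P0) ⧸ W) →ₗ[ℤ] F1 := W.liftQ (q ∘ₗ LinearMap.fst ℤ P P0) (by
      rintro _ ⟨r, rfl⟩
      simp [hqj])
    have hqb : ∀ g x, qb (τ g x) = τ1 g (qb x) := by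
      intro g x
      induction x using Submodule.Quotient.induction_on with
      | _ x => exact hq g x.1
    have hlift : ∀ z ∈ Submodule.span ℤ {x : F1 | ∃ (h : H) (y : F1), x = τ1 (h : G) y - y},
        ∃ e ∈ Submodule.span ℤ {x : (P × P0) ⧸ W | ∃ (h : H) (y : (P × P0) ⧸ W),
          x = τ (h : G) y - y}, qb e = z := by
      intro z hz
      induction hz using Submodule.span_induction with
      | mem y hy =>
        obtain ⟨a, w, rfl⟩ := hy
        obtain ⟨p, rfl⟩ := hqsurj w
        refine ⟨_, Submodule.subset_span ⟨a, W.mkQ (p, 0), rfl⟩, ?_⟩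
        rw [map_sub, hqb]
        rfl
      | zero => exact ⟨0, Submodule.zero_mem _, map_zero _⟩
      | add y z _ _ h1 h2 =>
        obtain ⟨e1, he1, rfl⟩ := h1
        obtain ⟨e2, he2, rfl⟩ := h2
        exact ⟨e1 + e2, Submodule.add_mem _ he1 he2, map_add _ _ _⟩
      | smul c y _ h1 =>
        obtain ⟨e1, he1, rfl⟩ := h1
        exact ⟨c • e1, Submodule.smul_mem _ c he1, map_smul _ _ _⟩
    obtain ⟨e, he, hee⟩ := hlift (qb m) (hfl H (qb m) (by
      rw [finsum_eq_norm, norm_apply]
      simp only [← hqb, ← map_sum, ← norm_apply, hm, map_zero]))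
    obtain ⟨⟨p, p0⟩, hx⟩ := W.mkQ_surjective (m - e)
    have hqp : q p = 0 := by
      have := congrArg qb hx
      rw [map_sub, hee, sub_self] at this
      exact this
    obtain ⟨r, hr⟩ := hexj.ge (LinearMap.mem_ker.mpr hqp)
    have hx' : W.mkQ (0, p0 + i0 r) = m - e := by
      rw [← hx]
      apply (Submodule.Quotient.eq W).mpr
      rw [Prod.mk_sub_mk, hWmem]
      exact ⟨-r, by simp [hr], by simp⟩
    let j0 : P0 →ₗ[ℤ] (P × P0) ⧸ W := W.mkQ ∘ₗ LinearMap.inr ℤ P P0
    have hj0 : ∀ g x, j0 (σ0 g x) = τ g (j0 x) := fun g x => by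
      change W.mkQ (0, σ0 g x) = τ g (W.mkQ (0, x))
      rw [hτ, map_zero]
    have hj0inj : Function.Injective j0 := by
      rw [← LinearMap.ker_eq_bot, eq_bot_iff]
      intro x hx0
      have hx0' : ((0 : P), x) ∈ W :=
        (Submodule.Quotient.mk_eq_zero W).mp (LinearMap.mem_ker.mp hx0)
      obtain ⟨r, hr1, hr2⟩ := hWmem.mp hx0'
      have : r = 0 := hjinj (by rw [map_zero]; exact hr1)
      rw [Submodule.mem_bot, ← hr2, this, map_zero, neg_zero]
    have hN : norm σ0 H (p0 + i0 r) = 0 := by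
      apply hj0inj
      rw [norm_apply, map_sum, map_zero]
      simp only [hj0, ← norm_apply]
      change norm τ H (W.mkQ (0, p0 + i0 r)) = 0
      rw [hx', map_sub, hm, norm_eq_zero_of_mem_span τ H he, sub_zero]
    have h0 := isFlasque_of_isPermutation hperm0 H (p0 + i0 r) (by rw [finsum_eq_norm]; exact hN)
    have hsum : m = j0 (p0 + i0 r) + e := by
      change m = W.mkQ (0, p0 + i0 r) + e
      rw [hx', sub_add_cancel]
    rw [hsum]
    refine Submodule.add_mem _ ?_ he
    clear hsum hN hx'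
    generalize p0 + i0 r = x0 at h0 ⊢
    induction h0 using Submodule.span_induction with
    | mem y hy =>
      obtain ⟨a, w, rfl⟩ := hy
      exact Submodule.subset_span ⟨a, j0 w, by rw [map_sub, hj0]⟩
    | zero => simp
    | add y z _ _ h1 h2 => rw [map_add]; exact Submodule.add_mem _ h1 h2
    | smul c y _ h1 => rw [map_smul]; exact Submodule.smul_mem _ c h1

/-- Coflasque resolution of a lattice. -/
theorem exists_coflasque_embedding [Finite G] (A : Type) [AddCommGroup A] [Module.Finite ℤ A]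
    [Module.Free ℤ A] (ρ : Representation ℤ G A) :
    ∃ (Q : Type) (_ : AddCommGroup Q) (P : Type) (_ : AddCommGroup P)
      (_ : Module.Finite ℤ Q) (_ : Module.Free ℤ Q) (_ : Module.Finite ℤ P) (_ : Module.Free ℤ P)
      (σ : Representation ℤ G Q) (τ : Representation ℤ G P) (i : A →ₗ[ℤ] Q) (π : Q →ₗ[ℤ] P),
      GLat.IsEquivariant ρ σ i ∧ GLat.IsEquivariant σ τ π ∧ Function.Injective i ∧
      Function.Surjective π ∧ LinearMap.range i = LinearMap.ker π ∧ GLat.IsCoflasque σ ∧
      GLat.IsPermutation τ := by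
  obtain ⟨P, _, F, _, _, _, _, _, σ, τ, i, π, hi, hπ, hiinj, hπsurj, hex, hperm, hfl⟩ :=
    exists_permutation_kernel_flasque_cover (Module.Dual ℤ A) ρ.dual
  obtain ⟨s, hs⟩ := Module.projective_lifting_property π LinearMap.id hπsurj
  have hs' : ∀ φ, π (s φ) = φ := fun φ => LinearMap.congr_fun hs φ
  have hmem : ∀ p, (LinearMap.id - s ∘ₗ π : F →ₗ[ℤ] F) p ∈ LinearMap.range i := fun p => by
    rw [hex, LinearMap.mem_ker]
    simp [hs']
  let r : F →ₗ[ℤ] P := (LinearEquiv.ofInjective i hiinj).symm.toLinearMap ∘ₗ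
    (LinearMap.id - s ∘ₗ π).codRestrict _ hmem
  have hr : ∀ p, i (r p) = p - s (π p) := fun p => by
    simp only [r, LinearMap.coe_comp, LinearEquiv.coe_coe, Function.comp_apply]
    exact congrArg Subtype.val ((LinearEquiv.ofInjective i hiinj).apply_symm_apply _)
  have hπi : ∀ q, π (i q) = 0 := fun q =>
    LinearMap.mem_ker.mp (hex.le (LinearMap.mem_range_self i q))
  refine ⟨Module.Dual ℤ F, inferInstance, Module.Dual ℤ P, inferInstance, inferInstance,
    inferInstance, inferInstance, inferInstance, τ.dual, σ.dual,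
    π.dualMap ∘ₗ (Module.evalEquiv ℤ A).toLinearMap, i.dualMap, ?_, ?_, ?_, ?_, ?_,
    isCoflasque_dual hfl, isPermutation_dual hperm⟩
  · intro g m
    ext p
    simp only [LinearMap.coe_comp, LinearEquiv.coe_coe, Function.comp_apply,
      LinearMap.dualMap_apply, Representation.dual_apply, Module.Dual.transpose_apply]
    rw [hπ]
    simp only [Representation.dual_apply, Module.evalEquiv_apply, Module.Dual.eval_apply,
      Module.Dual.transpose_apply, LinearMap.coe_comp, Function.comp_apply, inv_inv]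
  · intro g φ
    ext q
    simp only [LinearMap.dualMap_apply, Representation.dual_apply, Module.Dual.transpose_apply,
      LinearMap.coe_comp, Function.comp_apply]
    rw [hi]
  · exact (LinearMap.dualMap_injective_of_surjective hπsurj).comp (LinearEquiv.injective _)
  · intro φ
    refine ⟨φ ∘ₗ r, LinearMap.ext fun q => ?_⟩
    simp only [LinearMap.dualMap_apply, LinearMap.coe_comp, Function.comp_apply]
    congr 1
    apply hiinj
    rw [hr, hπi, map_zero, sub_zero]
  · apply le_antisymm
    · rintro _ ⟨a, rfl⟩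
      rw [LinearMap.mem_ker]
      ext q
      simp [hπi]
    · intro φ hφ
      have h0 : ∀ q, φ (i q) = 0 := fun q => LinearMap.congr_fun (LinearMap.mem_ker.mp hφ) q
      refine ⟨(Module.evalEquiv ℤ A).symm (φ ∘ₗ s), LinearMap.ext fun p => ?_⟩
      simp only [LinearMap.coe_comp, LinearEquiv.coe_coe, Function.comp_apply,
        LinearEquiv.apply_symm_apply, LinearMap.dualMap_apply]
      have := h0 (r p)
      rw [hr, map_sub, sub_eq_zero] at this
      exact this.symm

end GLat22
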